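import Mathlib
import Groth.Prelude
import Groth.Agent.Lib.Helper4.JacDim4
import Groth.Agent.Lib.Helper4.Equi10
import Groth.Agent.Lib.Helper1.FtSupp
import Groth.Agent.Lib.Helper7.CohStalk.Support
import Groth.Agent.Lib.Helper7.CohStalk.Pushforward
import Groth.Agent.Lib.Helper7.CohStalk.Finite
import Groth.Agent.Lib.Lead.SD1
import Groth.Agent.S9126

set_option linter.style.haveILetI false
set_option linter.unusedVariables false
set_option linter.unusedSectionVars false
set_option autoImplicit false
set_option backward.isDefEq.respectTransparency.types false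
set_option synthInstance.maxHeartbeats 400000
set_option maxHeartbeats 800000

universe u

/-! helper7: helper7: dimension formula dim cl(x) + dim F_x = dim_x Supp F for coherent modules on schemes locally of finite type over Jacobson universally catenary equidimensional schemes; support of stalks as trace of the support on generizations; hypotheses of the local dimension theorem pass to schemes locally of finite type -/

open CategoryTheory CategoryTheory.Limits AlgebraicGeometry TopologicalSpace
open Groth.Agent.Helper7.FinType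

namespace Groth.Agent.Helper7.JacSupp

attribute [local instance] Groth.Agent.Lead.SD.stalkModule

/-- The support of a localized module, for an arbitrary model of the localization. -/
theorem mem_support_iff_comap {A T : Type*} [CommRing A] [CommRing T] [Algebra A T]
    (q : Ideal A) [q.IsPrime] [IsLocalization.AtPrime T q]
    {M N : Type*} [AddCommGroup M] [Module A M] [AddCommGroup N] [Module A N] [Module T N]
    [IsScalarTower A T N] (f : M →ₗ[A] N) [IsLocalizedModule q.primeCompl f]
    (P : PrimeSpectrum T) :
    P ∈ Module.support T N ↔ PrimeSpectrum.comap (algebraMap A T) P ∈ Module.support A M := by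
  have hunit : ∀ s : q.primeCompl, algebraMap A T (s : A) ∉ P.asIdeal := by
    intro s h
    exact P.isPrime.ne_top (Ideal.eq_top_of_isUnit_mem _ h (IsLocalization.map_units T s))
  rw [Module.mem_support_iff', Module.mem_support_iff']
  constructor
  · rintro ⟨m, hm⟩
    obtain ⟨⟨n, s⟩, hs⟩ := IsLocalizedModule.surj q.primeCompl f m
    have hs' : (s : A) • m = f n := hs
    refine ⟨n, fun a ha han => ?_⟩
    have haP : algebraMap A T a ∉ P.asIdeal := ha
    apply hm (algebraMap A T a * algebraMap A T (s : A))
      (fun h => (P.isPrime.mem_or_mem h).elim haP (hunit s))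
    rw [mul_smul, algebraMap_smul, algebraMap_smul, hs', ← map_smul, han, map_zero]
  · rintro ⟨n, hn⟩
    refine ⟨f n, fun r hr hrn => ?_⟩
    obtain ⟨⟨a, s⟩, hra⟩ := IsLocalization.surj q.primeCompl r
    have hra' : r * algebraMap A T (s : A) = algebraMap A T a := hra
    have haP : algebraMap A T a ∉ P.asIdeal := by
      rw [← hra']
      exact fun h => (P.isPrime.mem_or_mem h).elim hr (hunit s)
    have h1 : f (a • n) = 0 := by
      rw [map_smul, ← algebraMap_smul T a (f n), ← hra', mul_comm, mul_smul, hrn, smul_zero]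
    obtain ⟨s', hs'⟩ := (IsLocalizedModule.eq_zero_iff q.primeCompl f).mp h1
    have hs'' : (s' : A) • a • n = 0 := hs'
    have hnot : (s' : A) * a ∉ (PrimeSpectrum.comap (algebraMap A T) P).asIdeal := by
      show algebraMap A T ((s' : A) * a) ∉ P.asIdeal
      rw [map_mul]
      exact fun h => (P.isPrime.mem_or_mem h).elim (hunit s') haP
    exact hn _ hnot (by rw [mul_smul]; exact hs'')

/-- The dimension of a closed subset of a prime spectrum. -/
theorem topologicalKrullDim_zeroLocus {R : Type u} [CommRing R] (I : Ideal R) :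
    topologicalKrullDim ↥(PrimeSpectrum.zeroLocus (I : Set R)) = ringKrullDim (R ⧸ I) := by
  have hce := PrimeSpectrum.isClosedEmbedding_comap_of_surjective (R ⧸ I) (Ideal.Quotient.mk I)
    Ideal.Quotient.mk_surjective
  have hr : Set.range (PrimeSpectrum.comap (Ideal.Quotient.mk I)) =
      PrimeSpectrum.zeroLocus (I : Set R) := by
    rw [range_comap_of_surjective _ _ Ideal.Quotient.mk_surjective, Ideal.mk_ker]
  rw [← hr, ← IsHomeomorph.topologicalKrullDim_eq _ hce.isEmbedding.toHomeomorph.isHomeomorph]
  exact PrimeSpectrum.topologicalKrullDim_eq_ringKrullDim _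

/-- The support of the stalk of a quasi-coherent module is the trace of the support of the module
on the generizations of the point. -/
theorem mem_support_stalk_iff {X : Scheme.{u}} (F : X.Modules)
    (hq : SheafOfModules.IsQuasicoherent.{u, u, u} F) {V : X.Opens} (hV : IsAffineOpen V) (x : V)
    (P : PrimeSpectrum (X.presheaf.stalk x.1)) :
    (X.fromSpecStalk x.1) P ∈ CohB1.support F ↔
      P ∈ Module.support (X.presheaf.stalk x.1) (F.presheaf.stalk x.1) := by
  haveI hq' : F.IsQuasicoherent := hq
  haveI := Groth.Agent.Lead.SD.isLocalizedModule_germ F hV x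
  haveI := hV.isLocalization_stalk x
  have hφ : (X.fromSpecStalk x.1) P =
      hV.fromSpec (PrimeSpectrum.comap (algebraMap Γ(X, V) (X.presheaf.stalk x.1)) P) := by
    rw [← hV.fromSpecStalk_eq_fromSpecStalk x.2]
    rfl
  rw [hφ, mem_support_iff_comap (hV.primeIdealOf x).asIdeal (Groth.Agent.Lead.SD.germₗ F x) P]
  have h1 := primeIdealOf_mem_support_iff F hq hV
    (hV.fromSpec (PrimeSpectrum.comap (algebraMap Γ(X, V) (X.presheaf.stalk x.1)) P))
    (fromSpec_mem hV _)
  rw [primeIdealOf_fromSpec hV _ (fromSpec_mem hV _)] at h1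
  exact h1.symm

/-- The dimension of the stalk of a coherent module is the dimension of the set of generizations
of the point lying in the support. -/
theorem supportDim_stalk_eq {X : Scheme.{u}} (F : X.Modules) (hF : Coh.IsCoh F) (x : X) :
    Module.supportDim (X.presheaf.stalk x) (F.presheaf.stalk x) =
      topologicalKrullDim ↥{t : X | t ∈ CohB1.support F ∧ t ⤳ x} := by
  haveI : Module.Finite (X.presheaf.stalk x) (F.presheaf.stalk x) := stalk_finite_of_isCoh F hF x
  obtain ⟨_, ⟨V, hV, rfl⟩, hxV, -⟩ :=
    X.isBasis_affineOpens.exists_subset_of_mem_open (Set.mem_univ x) isOpen_univ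
  have hV : IsAffineOpen V := hV
  have hxV : x ∈ V := hxV
  have hmem : ∀ P : PrimeSpectrum (X.presheaf.stalk x), (X.fromSpecStalk x) P ∈ CohB1.support F ↔
      P ∈ Module.support (X.presheaf.stalk x) (F.presheaf.stalk x) :=
    fun P => mem_support_stalk_iff F hF.1 hV ⟨x, hxV⟩ P
  have hset : {t : X | t ∈ CohB1.support F ∧ t ⤳ x} =
      ⇑(X.fromSpecStalk x) '' (Module.support (X.presheaf.stalk x) (F.presheaf.stalk x)) := by
    ext t
    constructor
    · rintro ⟨htY, htx⟩
      have ht : t ∈ Set.range (X.fromSpecStalk x) := by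
        rw [Scheme.range_fromSpecStalk]; exact htx
      obtain ⟨P, rfl⟩ := ht
      exact ⟨P, (hmem P).mp htY, rfl⟩
    · rintro ⟨P, hP, rfl⟩
      refine ⟨(hmem P).mpr hP, ?_⟩
      have ht : (X.fromSpecStalk x) P ∈ Set.range (X.fromSpecStalk x) := ⟨P, rfl⟩
      rw [Scheme.range_fromSpecStalk] at ht
      exact ht
  have hemb : Topology.IsEmbedding (X.fromSpecStalk x) := (X.fromSpecStalk x).isEmbedding
  rw [hset, ← IsHomeomorph.topologicalKrullDim_eq _ (hemb.homeomorphImage _).isHomeomorph]
  rw [Module.supportDim_eq_ringKrullDim_quotient_annihilator, ← topologicalKrullDim_zeroLocus,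
    ← Module.support_eq_zeroLocus]
  rfl

/-- Local rings of a scheme locally of finite type over a scheme with universally catenary local
rings are universally catenary. -/
theorem uc_of_lft {X S : Scheme.{u}}
    (h2 : ∀ s : S, CAlg.IsUniversallyCatenary (S.presheaf.stalk s))
    (g : X ⟶ S) [LocallyOfFiniteType g] (x : X) :
    CAlg.IsUniversallyCatenary (X.presheaf.stalk x) := by
  letI : Algebra (S.presheaf.stalk (g x)) (X.presheaf.stalk x) := (g.stalkMap x).hom.toAlgebra
  haveI : Algebra.EssFiniteType (S.presheaf.stalk (g x)) (X.presheaf.stalk x) :=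
    LocallyOfFiniteType.stalkMap g x
  exact Groth.Agent.S9126.result _ _ (h2 (g x))

/-- Irreducible components of a scheme locally of finite type over a Jacobson universally
catenary scheme with equidimensional components are equidimensional. -/
theorem equidim_of_lft {X S : Scheme.{u}} [IsLocallyNoetherian S] [JacobsonSpace S]
    (h2 : ∀ s : S, CAlg.IsUniversallyCatenary (S.presheaf.stalk s))
    (h3 : ∀ S' ∈ irreducibleComponents (S : Type u), ∀ s ∈ S', IsClosed ({s} : Set S) →
      topologicalKrullDim (↥S' : Type u) = topologicalKrullDim ↥{t : S | t ∈ S' ∧ t ⤳ s})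
    (g : X ⟶ S) [LocallyOfFiniteType g] :
    ∀ X' ∈ irreducibleComponents (X : Type u), ∀ x ∈ X', IsClosed ({x} : Set X) →
      topologicalKrullDim (↥X' : Type u) = topologicalKrullDim ↥{t : X | t ∈ X' ∧ t ⤳ x} := by
  intro X' hX' x hxX' hxcl
  have hcl : IsClosed X' := isClosed_of_mem_irreducibleComponents X' hX'
  obtain ⟨Z, ι, hι, hr, hirr⟩ : ∃ (Z : Scheme.{u}) (ι : Z ⟶ X), IsClosedImmersion ι ∧
      Set.range ι = X' ∧ IrreducibleSpace Z := by
    refine ⟨_, (Scheme.IdealSheafData.vanishingIdeal (⟨X', hcl⟩ : Closeds X)).subschemeι,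
      inferInstance, ?_, ?_⟩
    · rw [Scheme.IdealSheafData.range_subschemeι, Scheme.IdealSheafData.coe_support_vanishingIdeal]
      rfl
    · exact Groth.Agent.Lib.Helper4.Equi7.irreducibleSpace_vanishingIdeal_subscheme
        (⟨X', hcl⟩ : Closeds X) hX'.1
  have hemb : Topology.IsEmbedding ι := ι.isEmbedding
  obtain ⟨z, hz⟩ : x ∈ Set.range ι := by rw [hr]; exact hxX'
  have hzcl : IsClosed ({z} : Set Z) := by
    have hpre : ({z} : Set Z) = ⇑ι ⁻¹' {x} := by
      ext w
      simp only [Set.mem_singleton_iff, Set.mem_preimage]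
      constructor
      · rintro rfl; exact hz
      · intro hw; exact hemb.injective (hw.trans hz.symm)
    rw [hpre]
    exact hxcl.preimage ι.continuous
  have eZ := Groth.Agent.Lib.Helper4.JacDim1.dim_eq_genIn_add (ι ≫ g) h2 h3 z hzcl
  have eS := Groth.Agent.Lib.Helper4.JacDim1.stalk_dim_eq_gen (ι ≫ g) z (h2 _)
  rw [Groth.Agent.Lib.Helper4.JacDim1.tr_eq_zero_of_isClosed (ι ≫ g) z hzcl, Nat.cast_zero,
    add_zero] at eS
  have h1 : topologicalKrullDim Z = ringKrullDim (Z.presheaf.stalk z) := by rw [eZ, eS]
  have h2' : topologicalKrullDim Z = topologicalKrullDim ↥X' := by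
    rw [← hr]
    exact IsHomeomorph.topologicalKrullDim_eq _ hemb.toHomeomorph.isHomeomorph
  have h3' : ringKrullDim (Z.presheaf.stalk z) =
      topologicalKrullDim ↥{t : X | t ∈ X' ∧ t ⤳ x} := by
    have hset : {t : X | t ∈ X' ∧ t ⤳ x} = ⇑ι '' (Set.range (Z.fromSpecStalk z)) := by
      rw [Scheme.range_fromSpecStalk]
      ext t
      constructor
      · rintro ⟨htX', htx⟩
        obtain ⟨w, rfl⟩ : t ∈ Set.range ι := by rw [hr]; exact htX'
        refine ⟨w, ?_, rfl⟩
        show w ⤳ z
        rw [← hemb.isInducing.specializes_iff, hz]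
        exact htx
      · rintro ⟨w, hw, rfl⟩
        refine ⟨?_, ?_⟩
        · rw [← hr]; exact ⟨w, rfl⟩
        · rw [← hz]; exact (show w ⤳ z from hw).map ι.continuous
    rw [hset, ← IsHomeomorph.topologicalKrullDim_eq _ (hemb.homeomorphImage _).isHomeomorph,
      ← IsHomeomorph.topologicalKrullDim_eq _
        (Z.fromSpecStalk z).isEmbedding.toHomeomorph.isHomeomorph]
    exact (PrimeSpectrum.topologicalKrullDim_eq_ringKrullDim _).symm
  rw [← h2', h1, h3']

/-- The dimension formula for the support of a coherent module. -/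
theorem main {X S : Scheme.{u}} [IsLocallyNoetherian S] [JacobsonSpace S]
    (h2 : ∀ s : S, CAlg.IsUniversallyCatenary (S.presheaf.stalk s))
    (h3 : ∀ S' ∈ irreducibleComponents (S : Type u), ∀ s ∈ S', IsClosed ({s} : Set S) →
      topologicalKrullDim (↥S' : Type u) = topologicalKrullDim ↥{t : S | t ∈ S' ∧ t ⤳ s})
    (g : X ⟶ S) [LocallyOfFiniteType g] (F : X.Modules) (hF : Coh.IsCoh F) (x : X)
    (hx : x ∈ CohB1.support F) :
    topologicalKrullDim ↥(closure ({x} : Set X)) +
        Module.supportDim ↑(X.presheaf.stalk x) ↑(F.presheaf.stalk x) =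
      FlatMor.localDim ↥(CohB1.support F) ⟨x, hx⟩ := by
  haveI : IsLocallyNoetherian X := LocallyOfFiniteType.isLocallyNoetherian g
  haveI : JacobsonSpace X := LocallyOfFiniteType.jacobsonSpace g
  have hY : IsClosed (CohB1.support F) := Groth.Agent.Helper1.FtGen.isClosed_support F hF.2
  have key := (Groth.Agent.Lib.Helper4.JacDim4.S4888_main X (uc_of_lft h2 g)
    (equidim_of_lft h2 h3 g) (CohB1.support F) hY x hx).1
  rw [key, supportDim_stalk_eq F hF x]

end Groth.Agent.Helper7.JacSupp
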